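import Mathlib

/-!
# Algebra for the flat extension of a quotient of the generic fibre (helper5)
-/

set_option autoImplicit false
universe u
open TensorProduct

namespace Groth.Agent.Lib.Helper5.FlatExt

/-- over a regular local domain of dimension at most one, torsion-free modules are flat -/
theorem flat_of_torsionFree {R : Type*} [CommRing R] [IsDomain R] (hreg : IsRegularLocalRing R)
    (hdim : ringKrullDim R ≤ 1) {M : Type*} [AddCommGroup M] [Module R M]
    (htf : ∀ (a : R) (m : M), a ≠ 0 → a • m = 0 → m = 0) : Module.Flat R M := by
  haveI := hreg
  haveI : IsPrincipalIdealRing R := by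
    by_cases hf : IsField R
    · exact hf.isPrincipalIdealRing
    · have hdim1 : ringKrullDim R = 1 := by
        refine le_antisymm hdim ?_
        by_contra hlt
        push Not at hlt
        have h0 : ringKrullDim R ≤ 0 := by
          cases h : ringKrullDim R using WithBot.recBotCoe with
          | bot => exact bot_le
          | coe n =>
            rw [h] at hlt
            have h1 : n < 1 := by exact_mod_cast hlt
            have h2 : n = 0 := Order.lt_one_iff.mp h1
            rw [h2]; rfl
        haveI : Ring.KrullDimLE 0 R := (Ring.krullDimLE_iff).mpr h0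
        exact hf Ring.KrullDimLE.isField_of_isDomain
      have h1 : Module.finrank (IsLocalRing.ResidueField R) (IsLocalRing.CotangentSpace R) = 1 := by
        have := (IsRegularLocalRing.iff_finrank_cotangentSpace R).mp hreg
        rw [hdim1] at this
        exact_mod_cast this
      haveI : IsDiscreteValuationRing R := ((IsDiscreteValuationRing.TFAE R hf).out 0 5).mpr h1
      infer_instance
  rw [Module.Flat.flat_iff_torsion_eq_bot_of_isBezout]
  rw [eq_bot_iff]
  intro m hm
  rw [Submodule.mem_torsion_iff] at hm
  obtain ⟨a, ha⟩ := hm
  rw [Submodule.mem_bot]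
  exact htf a m (nonZeroDivisors.ne_zero a.2) ha

/-- flat modules over a domain are torsion-free -/
theorem eq_zero_of_smul_eq_zero_of_flat {R : Type*} [CommRing R] [IsDomain R] {M : Type*}
    [AddCommGroup M] [Module R M] [Module.Flat R M] (a : R) (m : M) (ha : a ≠ 0)
    (h : a • m = 0) : m = 0 := by
  have h1 : m ∈ Submodule.torsion R M := by
    rw [Submodule.mem_torsion_iff]
    exact ⟨⟨a, mem_nonZeroDivisors_of_ne_zero ha⟩, h⟩
  rw [Module.Flat.torsion_eq_bot] at h1
  exact h1

/-- **AL**: a torsion-free module over a domain `A` whose base change to a nontrivial `A`-algebra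
in which all nonzero elements of `A` become units vanishes, is zero -/
theorem subsingleton_of_subsingleton_tensor {A : Type u} [CommRing A] [IsDomain A] {K' : Type u}
    [CommRing K'] [Algebra A K'] [Nontrivial K']
    (hU : ∀ a : A, a ≠ 0 → IsUnit (algebraMap A K' a)) {M : Type u} [AddCommGroup M] [Module A M]
    (htf : ∀ (a : A) (m : M), a ≠ 0 → a • m = 0 → m = 0)
    (h0 : Subsingleton (K' ⊗[A] M)) : Subsingleton M := by
  -- `K'` is flat over `A`, being an algebra over the fraction field
  let F := FractionRing A
  letI : Algebra F K' := (IsLocalization.lift (M := nonZeroDivisors A) (S := F)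
    (g := algebraMap A K') (fun y => hU y (nonZeroDivisors.ne_zero y.2))).toAlgebra
  haveI : IsScalarTower A F K' := IsScalarTower.of_algebraMap_eq (fun a => by
    change algebraMap A K' a = IsLocalization.lift _ (algebraMap A F a)
    rw [IsLocalization.lift_eq])
  haveI : Module.Flat A K' := Module.Flat.trans A F K'
  refine ⟨fun m m' => ?_⟩
  by_contra hne
  have hd : m - m' ≠ 0 := sub_ne_zero.mpr hne
  let g : A →ₗ[A] M := LinearMap.toSpanSingleton A M (m - m')
  have hg : Function.Injective g := by
    rw [injective_iff_map_eq_zero]
    intro a ha
    by_contra ha0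
    exact hd (htf a _ ha0 ha)
  have h2 : Function.Injective (g.lTensor K') := Module.Flat.lTensor_preserves_injective_linearMap g hg
  haveI : Subsingleton (K' ⊗[A] A) := h2.subsingleton
  have h3 : Subsingleton K' := (TensorProduct.rid A K').symm.injective.subsingleton
  exact not_subsingleton K' h3

end Groth.Agent.Lib.Helper5.FlatExt
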