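import Mathlib
import Groth.Agent.Lib.Helper5.FlatExt.Alg
import Groth.Agent.Lib.Lead.BCU1

/-!
# Ring-level chart lemma for the uniqueness of flat extensions (helper5)
-/

set_option autoImplicit false
universe u
open CategoryTheory CategoryTheory.Limits TensorProduct

namespace Groth.Agent.Lib.Helper5.FlatExt

open Groth.Agent.Lead.BCU

/-- **ALG2**: for a pushout square of rings `B' = B ⊗_A K'` with `A` a domain and `K'` a nontrivial
`A`-algebra in which nonzero elements of `A` become units, a `B`-module `M` that is torsion-free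
over `A` and has vanishing base change to `B'` is zero. -/
theorem subsingleton_of_isPushout_of_isBC {A B K' B' : Type u} [CommRing A] [IsDomain A]
    [CommRing B] [CommRing K'] [Nontrivial K'] [CommRing B']
    (α : A →+* B) (κ : A →+* K') (β : B →+* B') (γ : K' →+* B')
    (hpo : IsPushout (CommRingCat.ofHom α) (CommRingCat.ofHom κ) (CommRingCat.ofHom β)
      (CommRingCat.ofHom γ))
    (hκ : ∀ a : A, a ≠ 0 → IsUnit (κ a))
    {M : Type u} [AddCommGroup M] [Module B M]
    (htf : ∀ (a : A) (m : M), a ≠ 0 → α a • m = 0 → m = 0)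
    {N : Type u} [AddCommGroup N] [Module B' N] [Subsingleton N] (l : M → N)
    (hl : IsBC β l) : Subsingleton M := by
  letI : Algebra A B := α.toAlgebra
  letI : Algebra A K' := κ.toAlgebra
  letI : Algebra B B' := β.toAlgebra
  letI : Algebra K' B' := γ.toAlgebra
  letI : Algebra A B' := (β.comp α).toAlgebra
  haveI : IsScalarTower A B B' := IsScalarTower.of_algebraMap_eq (fun a => rfl)
  have hw : β.comp α = γ.comp κ := by
    have := hpo.w
    exact congrArg CommRingCat.Hom.hom this
  haveI : IsScalarTower A K' B' := IsScalarTower.of_algebraMap_eq (fun a => by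
    change (β.comp α) a = (γ.comp κ) a
    rw [hw])
  have hP : Algebra.IsPushout A K' B B' :=
    CommRingCat.isPushout_iff_isPushout.mp hpo.flip
  letI : Module A M := Module.compHom M α
  haveI : IsScalarTower A B M := IsScalarTower.of_compHom _ _ _
  letI : Module B N := Module.compHom N β
  haveI : IsScalarTower B B' N := IsScalarTower.of_compHom _ _ _
  obtain ⟨l', -, hbc⟩ := hl
  have e1 : B' ⊗[B] M ≃ₗ[B'] N := hbc.equiv
  have e2 : B' ⊗[B] M ≃ₗ[K'] K' ⊗[A] M := Algebra.IsPushout.cancelBaseChange A K' B B' M
  haveI : Subsingleton (B' ⊗[B] M) := e1.toEquiv.subsingleton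
  haveI : Subsingleton (K' ⊗[A] M) := e2.symm.toEquiv.subsingleton
  exact subsingleton_of_subsingleton_tensor (A := A) (K' := K') hκ
    (fun a m ha h => htf a m ha h) inferInstance

end Groth.Agent.Lib.Helper5.FlatExt
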