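import Mathlib
import Groth.Agent.Lib.Lead.BCU4

/-!
# The inclusion of the generic fibre (helper5)

Affineness, flatness, and the counit isomorphism `i^* i_* M ≅ M` for quasi-coherent `M`.
-/

set_option autoImplicit false
universe u
open CategoryTheory CategoryTheory.Limits AlgebraicGeometry TopologicalSpace Opposite
open AlgebraicGeometry.Scheme.Modules

namespace Groth.Agent.Lib.Helper5.FlatExt

/-- The canonical morphism `Spec 𝒪_{X,x} ⟶ X` is flat (as in helper3's `FibStalk6`). -/
theorem flat_fromSpecStalk (X : Scheme.{u}) (x : X) : Flat (X.fromSpecStalk x) := by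
  obtain ⟨_, ⟨U, hU : IsAffineOpen U, rfl⟩, hxU, -⟩ :=
    X.isBasis_affineOpens.exists_subset_of_mem_open (Set.mem_univ x) isOpen_univ
  rw [← hU.fromSpecStalk_eq_fromSpecStalk hxU, IsAffineOpen.fromSpecStalk]
  have : Flat (Spec.map (X.presheaf.germ U x hxU)) := by
    rw [HasRingHomProperty.Spec_iff (P := @Flat)]
    let _ := X.presheaf.algebra_section_stalk ⟨x, hxU⟩
    have := hU.isLocalization_stalk ⟨x, hxU⟩
    have hfl : Module.Flat Γ(X, U) (X.presheaf.stalk x) :=
      IsLocalization.flat _ (hU.primeIdealOf ⟨x, hxU⟩).asIdeal.primeCompl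
    exact RingHom.flat_algebraMap_iff.mpr hfl
  infer_instance

/-- `Spec κ(y) ⟶ Y` is an affine morphism -/
instance isAffineHom_fromSpecResidueField (Y : Scheme.{u}) (y : Y) :
    IsAffineHom (Y.fromSpecResidueField y) := by
  refine ⟨fun U _ => ?_⟩
  by_cases h : (default : Spec (Y.residueField y)) ∈ (Y.fromSpecResidueField y) ⁻¹ᵁ U
  · have : (Y.fromSpecResidueField y) ⁻¹ᵁ U = ⊤ := by
      ext s
      rw [Unique.eq_default s]
      exact iff_of_true h trivial
    rw [this]
    exact isAffineOpen_top _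
  · have : (Y.fromSpecResidueField y) ⁻¹ᵁ U = ⊥ := by
      ext s
      rw [Unique.eq_default s]
      exact iff_of_false h (fun h' => h'.elim)
    rw [this]
    exact isAffineOpen_bot _

theorem residue_bijective_of_isField {R : Type*} [CommRing R] [IsLocalRing R] (h : IsField R) :
    Function.Bijective (IsLocalRing.residue R) := by
  refine ⟨?_, IsLocalRing.residue_surjective⟩
  rw [RingHom.injective_iff_ker_eq_bot, IsLocalRing.ker_residue]
  exact IsLocalRing.isField_iff_maximalIdeal_eq.mp h

/-- for an integral scheme, the inclusion of the generic point is flat -/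
theorem flat_fromSpecResidueField_genericPoint (Y : Scheme.{u}) [IsIntegral Y] :
    Flat (Y.fromSpecResidueField (genericPoint Y)) := by
  haveI := flat_fromSpecStalk Y (genericPoint Y)
  have hf : IsField (Y.presheaf.stalk (genericPoint Y)) :=
    Field.toIsField (Y.functionField)
  have hbij : Function.Bijective (Y.residue (genericPoint Y)).hom :=
    residue_bijective_of_isField hf
  haveI : IsIso (Y.residue (genericPoint Y)) :=
    (ConcreteCategory.isIso_iff_bijective _).mpr hbij
  unfold Scheme.fromSpecResidueField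
  infer_instance

variable {X Y : Scheme.{u}} (f : X ⟶ Y)

instance isAffineHom_fiberι (y : Y) : IsAffineHom (f.fiberι y) :=
  MorphismProperty.pullback_fst (P := @IsAffineHom) f (Y.fromSpecResidueField y) inferInstance

theorem flat_fiberι_genericPoint [IsIntegral Y] : Flat (f.fiberι (genericPoint Y)) := by
  haveI := flat_fromSpecResidueField_genericPoint Y
  exact inferInstanceAs (Flat (pullback.fst f (Y.fromSpecResidueField (genericPoint Y))))

theorem fiberι_apply_genericPoint (y : Y) (z : f.fiber y) : f (f.fiberι y z) = y := by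
  have h : f.fiberι y z ∈ Set.range (f.fiberι y) := ⟨z, rfl⟩
  rw [Scheme.Hom.range_fiberι] at h
  exact h

/-- **(U)** a nonzero function on an open of an integral scheme pulls back to a unit along any
morphism with image the generic point -/
theorem isUnit_app_of_ne_zero [IsIntegral Y] {Z : Scheme.{u}} (g : Z ⟶ Y)
    (hg : ∀ z : Z, g z = genericPoint Y) (V : Y.Opens) (a : Γ(Y, V)) (ha : a ≠ 0) :
    IsUnit (g.app V a) := by
  have hη : genericPoint Y ∈ Y.basicOpen a := by
    show genericPoint Y ∈ (Y.basicOpen a : Set Y)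
    rw [(genericPoint_spec Y).mem_open_set_iff (Y.basicOpen a).isOpen]
    have hne : Y.basicOpen a ≠ ⊥ := fun h => ha ((AlgebraicGeometry.basicOpen_eq_bot_iff a).mp h)
    obtain ⟨p, hp⟩ := (Opens.ne_bot_iff_nonempty _).mp hne
    exact ⟨p, trivial, hp⟩
  apply Z.toRingedSpace.isUnit_of_isUnit_germ
  intro z hz
  have h1 : z ∈ g ⁻¹ᵁ (Y.basicOpen a) := by
    show g z ∈ Y.basicOpen a
    rw [hg z]; exact hη
  rw [Scheme.preimage_basicOpen] at h1
  exact (Scheme.mem_basicOpen Z _ z hz).mp h1

theorem isUnit_appLE_of_ne_zero [IsIntegral Y] {Z : Scheme.{u}} (g : Z ⟶ Y)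
    (hg : ∀ z : Z, g z = genericPoint Y) (V : Y.Opens) (W : Z.Opens) (e : W ≤ g ⁻¹ᵁ V)
    (a : Γ(Y, V)) (ha : a ≠ 0) : IsUnit (g.appLE V W e a) := by
  have h := isUnit_app_of_ne_zero g hg V a ha
  rw [Scheme.Hom.appLE]
  exact h.map (Z.presheaf.map (homOfLE e).op).hom

section Counit

variable {Z : Scheme.{u}} (i : Z ⟶ X) [Mono i] [IsAffineHom i]

/-- **the counit `i^* i_* M ⟶ M` is an isomorphism** for an affine monomorphism `i` and a
quasi-coherent `M` (by affine base change along the trivial cartesian square of a monomorphism) -/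
theorem isIso_counit_app_of_mono (M : Z.Modules) [M.IsQuasicoherent] :
    IsIso ((pullbackPushforwardAdjunction i).counit.app M) := by
  have hsq : IsPullback (𝟙 Z) (𝟙 Z) i i := (IsKernelPair.id_of_mono i)
  haveI h1 := Groth.Agent.Lead.BCU.isIso_bcMap i i (𝟙 Z) (𝟙 Z) hsq M
  haveI : (pushforward (𝟙 Z)).IsEquivalence :=
    Functor.isEquivalence_of_iso (pushforwardId Z).symm
  haveI : (Scheme.Modules.pullback (𝟙 Z)).IsEquivalence :=
    (pullbackPushforwardAdjunction (𝟙 Z)).isEquivalence_left_of_isEquivalence_right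
  haveI hu : IsIso ((pullbackPushforwardAdjunction (𝟙 Z)).unit.app M) := inferInstance
  have hβ : (pushforwardComp (𝟙 Z) i).hom.app ((Scheme.Modules.pullback (𝟙 Z)).obj M) ≫
      (pushforwardCongr hsq.w).hom.app ((Scheme.Modules.pullback (𝟙 Z)).obj M) ≫
      (pushforwardComp (𝟙 Z) i).inv.app ((Scheme.Modules.pullback (𝟙 Z)).obj M) = 𝟙 _ := by
    ext U x
    simp
  have hv : Groth.Agent.Lead.BCU.vMap i i (𝟙 Z) (𝟙 Z) hsq M =
      (pushforward i).map ((pullbackPushforwardAdjunction (𝟙 Z)).unit.app M) := by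
    unfold Groth.Agent.Lead.BCU.vMap
    rw [hβ]
    exact Category.comp_id _
  have hb : Groth.Agent.Lead.BCU.bcMap i i (𝟙 Z) (𝟙 Z) hsq M =
      (pullbackPushforwardAdjunction i).counit.app M ≫
        (pullbackPushforwardAdjunction (𝟙 Z)).unit.app M := by
    unfold Groth.Agent.Lead.BCU.bcMap
    rw [hv, Adjunction.homEquiv_counit]
    exact (pullbackPushforwardAdjunction i).counit.naturality _
  rw [hb] at h1
  exact IsIso.of_isIso_comp_right _ ((pullbackPushforwardAdjunction (𝟙 Z)).unit.app M)

end Counit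

end Groth.Agent.Lib.Helper5.FlatExt
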