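import Mathlib
import Groth.Agent.Lib.Helper5.FlatExt.Gen
import Groth.Agent.Lib.Lead.SD1
import Groth.Agent.Lib.Helper1.PushQc

/-!
# Direct images from the generic fibre are torsion-free over the base (helper5)
-/

set_option autoImplicit false
universe u
open CategoryTheory CategoryTheory.Limits AlgebraicGeometry TopologicalSpace Opposite
open AlgebraicGeometry.Scheme.Modules

namespace Groth.Agent.Lib.Helper5.FlatExt

variable {X Y Z : Scheme.{u}} (i : Z ⟶ X) (f : X ⟶ Y)

/-- a presheaf-of-modules restriction is semilinear -/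
theorem res_smul (M : X.Modules) {U W : X.Opens} (hWU : W ≤ U) (r : Γ(X, U)) (m : Γ(M, U)) :
    M.presheaf.map (homOfLE hWU).op (r • m) =
      (X.presheaf.map (homOfLE hWU).op r) • M.presheaf.map (homOfLE hWU).op m :=
  PresheafOfModules.map_smul (R := X.presheaf ⋙ forget₂ CommRingCat RingCat)
    (show PresheafOfModules (X.presheaf ⋙ forget₂ CommRingCat RingCat) from M.val)
    (homOfLE hWU).op r m

/-- **Step B**: if all points of `Z` lie over the generic point of the integral scheme `Y`, then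
every stalk of `i_* M` is torsion-free over the local ring of `Y`. -/
theorem pushforward_stalk_torsionFree [IsIntegral Y]
    (hgen : ∀ z : Z, f (i z) = genericPoint Y) (M : Z.Modules) (x : X)
    (a : Y.presheaf.stalk (f x)) (ha : a ≠ 0)
    (s : ((pushforward i).obj M).presheaf.stalk x)
    (h : (f.stalkMap x).hom a • s = 0) : s = 0 := by
  obtain ⟨V, hV, a0, rfl⟩ := TopCat.Presheaf.exists_germ_eq Y.presheaf a
  obtain ⟨U₀, hU₀, s₀, rfl⟩ := TopCat.Presheaf.exists_germ_eq ((pushforward i).obj M).presheaf s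
  have ha0 : a0 ≠ 0 := by
    rintro rfl
    exact ha (map_zero _)
  -- shrink
  let U : X.Opens := U₀ ⊓ f ⁻¹ᵁ V
  have hxU : x ∈ U := ⟨hU₀, hV⟩
  have hUU₀ : U ≤ U₀ := inf_le_left
  have hUV : U ≤ f ⁻¹ᵁ V := inf_le_right
  let s1 : Γ((pushforward i).obj M, U) :=
    ((pushforward i).obj M).presheaf.map (homOfLE hUU₀).op s₀
  have hs1 : ((pushforward i).obj M).presheaf.germ U x hxU s1 =
      ((pushforward i).obj M).presheaf.germ U₀ x hU₀ s₀ :=
    TopCat.Presheaf.germ_res_apply _ (homOfLE hUU₀) x hxU s₀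
  let r : Γ(X, U) := f.appLE V U hUV a0
  have hr : (f.stalkMap x).hom (Y.presheaf.germ V (f x) hV a0) = X.presheaf.germ U x hxU r := by
    have h1 := Scheme.Hom.germ_stalkMap_apply f V x hV a0
    have h2 : X.presheaf.germ U x hxU r =
        X.presheaf.germ (f ⁻¹ᵁ V) x hV (f.app V a0) :=
      TopCat.Presheaf.germ_res_apply _ (homOfLE hUV) x hxU (f.app V a0)
    rw [h2]
    exact h1
  rw [← hs1, hr, ← Groth.Agent.Lead.SD.germ_smul] at h
  have h0 : ((pushforward i).obj M).presheaf.germ U x hxU (r • s1) =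
      ((pushforward i).obj M).presheaf.germ U x hxU 0 := by
    rw [h, map_zero]
  obtain ⟨W, hxW, iU, iV, e⟩ := TopCat.Presheaf.germ_eq
    ((pushforward i).obj M).presheaf x hxU hxU (r • s1) 0 h0
  rw [map_zero] at e
  have hWU : W ≤ U := iU.le
  have e' : ((pushforward i).obj M).presheaf.map (homOfLE hWU).op (r • s1) = 0 := e
  rw [res_smul] at e'
  set s2 := ((pushforward i).obj M).presheaf.map (homOfLE hWU).op s1 with hs2
  have hs2g : ((pushforward i).obj M).presheaf.germ W x hxW s2 =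
      ((pushforward i).obj M).presheaf.germ U x hxU s1 :=
    TopCat.Presheaf.germ_res_apply _ (homOfLE hWU) x hxW s1
  rw [← hs1, ← hs2g]
  have hs2z : s2 = 0 := by
    rw [Groth.Agent.Helper1.PushQc.push_smul] at e'
    have hgen' : ∀ z : Z, (i ≫ f) z = genericPoint Y := fun z => hgen z
    have hle : i ⁻¹ᵁ W ≤ (i ≫ f) ⁻¹ᵁ V := by
      intro z hz
      exact hUV (hWU hz)
    have hu : IsUnit ((i.app W).hom (X.presheaf.map (homOfLE hWU).op r)) := by
      have h1 := isUnit_appLE_of_ne_zero (i ≫ f) hgen' V (i ⁻¹ᵁ W) hle a0 ha0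
      convert h1 using 1
      have h2 := congrArg (fun φ => φ.hom a0)
        (Scheme.Hom.appLE_map f hUV (homOfLE hWU).op)
      have h3 := congrArg (fun φ => φ.hom a0)
        (Scheme.Hom.appLE_comp_appLE i f V W (i ⁻¹ᵁ W) (hWU.trans hUV) le_rfl)
      simp only [CommRingCat.hom_comp, RingHom.coe_comp, Function.comp_apply] at h2 h3
      rw [i.app_eq_appLE]
      show (i.appLE W (i ⁻¹ᵁ W) le_rfl).hom ((X.presheaf.map (homOfLE hWU).op).hom
        ((f.appLE V U hUV).hom a0)) = _
      rw [h2]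
      exact h3
    obtain ⟨v, hv⟩ := hu
    have h3 : (↑v⁻¹ : Γ(Z, i ⁻¹ᵁ W)) • ((i.app W).hom (X.presheaf.map (homOfLE hWU).op r) •
        (show Γ(M, i ⁻¹ᵁ W) from s2)) = 0 := by
      rw [show ((i.app W).hom (X.presheaf.map (homOfLE hWU).op r) •
        (show Γ(M, i ⁻¹ᵁ W) from s2)) = 0 from e', smul_zero]
    rw [← hv, smul_smul, Units.inv_mul, one_smul] at h3
    exact h3
  rw [hs2z, map_zero]

end Groth.Agent.Lib.Helper5.FlatExt
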