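import Mathlib
import Groth.Agent.Lib.Helper5.FlatExt.ChartAlg
import Groth.Agent.Lib.Helper5.FlatExt.PushTF
import Groth.Agent.Lib.Helper5.Stalk.Exact
import Groth.Agent.Lib.Helper1.QcAbel
import Groth.Agent.Lib.Lead.BCU3

/-!
# A quasi-coherent module, torsion-free over the base, with vanishing generic fibre is zero (helper5)
-/

set_option autoImplicit false
universe u
open CategoryTheory CategoryTheory.Limits AlgebraicGeometry TopologicalSpace Opposite
open AlgebraicGeometry.Scheme.Modules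

namespace Groth.Agent.Lib.Helper5.FlatExt

open Groth.Agent.Lib.Helper5.StalkAdj Groth.Agent.Lead.BCU

variable {X Y Z S' : Scheme.{u}}

theorem stalkMap_germ_appLE (f : X ⟶ Y) {V : Y.Opens} {W : X.Opens} (e : W ≤ f ⁻¹ᵁ V) (x : X)
    (hx : x ∈ W) (a : Γ(Y, V)) :
    (f.stalkMap x).hom (Y.presheaf.germ V (f x) (e hx) a) =
      X.presheaf.germ W x hx ((f.appLE V W e).hom a) := by
  have h1 := Scheme.Hom.germ_stalkMap_apply f V x (e hx) a
  have h2 : X.presheaf.germ W x hx ((f.appLE V W e).hom a) =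
      X.presheaf.germ (f ⁻¹ᵁ V) x (e hx) (f.app V a) :=
    TopCat.Presheaf.germ_res_apply _ (homOfLE e) x hx (f.app V a)
  rw [h2]
  exact h1

/-- sections of a module with torsion-free stalks (over the base) are torsion-free -/
theorem sections_torsionFree [IsIntegral Y] (f : X ⟶ Y) (T : X.Modules)
    (htf : ∀ (x : X) (a : Y.presheaf.stalk (f x)) (m : T.presheaf.stalk x), a ≠ 0 →
      (f.stalkMap x).hom a • m = 0 → m = 0)
    {V : Y.Opens} {W : X.Opens} (e : W ≤ f ⁻¹ᵁ V) (a : Γ(Y, V)) (ha : a ≠ 0) (m : Γ(T, W))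
    (h : (f.appLE V W e).hom a • m = 0) : m = 0 := by
  let F : TopCat.Sheaf AddCommGrpCat.{u} X := ⟨T.presheaf, T.isSheaf⟩
  refine TopCat.Presheaf.section_ext F W m 0 ?_
  intro x hx
  rw [map_zero]
  refine htf x (Y.presheaf.germ V (f x) (e hx) a) _ ?_ ?_
  · intro h0
    apply ha
    exact germ_injective_of_isIntegral Y (f x) (e hx) (h0.trans (map_zero _).symm)
  · rw [stalkMap_germ_appLE f e x hx a]
    have h3 := Groth.Agent.Lead.SD.germ_smul T x W hx ((f.appLE V W e).hom a) m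
    rw [h] at h3
    rw [← h3, map_zero]

/-- **chart lemma** -/
theorem isZero_of_isZero_pullback [IsIntegral Y] [Nonempty S'] {i : Z ⟶ X} {p : Z ⟶ S'}
    {f : X ⟶ Y} {j : S' ⟶ Y} (H : IsPullback i p f j) [IsAffineHom j]
    (hj : ∀ s : S', j s = genericPoint Y)
    (T : X.Modules) [T.IsQuasicoherent]
    (htf : ∀ (x : X) (a : Y.presheaf.stalk (f x)) (m : T.presheaf.stalk x), a ≠ 0 →
      (f.stalkMap x).hom a • m = 0 → m = 0)
    (h0 : IsZero ((Scheme.Modules.pullback i).obj T)) : IsZero T := by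
  haveI : IsAffineHom i := MorphismProperty.of_isPullback H.flip inferInstance
  have key : ∀ (W : X.Opens) (V : Y.Opens), IsAffineOpen W → IsAffineOpen V → W ≤ f ⁻¹ᵁ V →
      Nonempty V → Subsingleton Γ(T, W) := by
    intro W V hW hV e hne
    have hW' : IsAffineOpen (i ⁻¹ᵁ W) := hW.preimage i
    have hK : IsAffineOpen (j ⁻¹ᵁ V) := hV.preimage j
    have hUY : i ⁻¹ᵁ W = i ⁻¹ᵁ W ⊓ p ⁻¹ᵁ (j ⁻¹ᵁ V) := by
      refine (inf_eq_left.2 ?_).symm
      intro z hz
      have h1 : (i ≫ f) z ∈ V := e hz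
      rw [H.w] at h1
      exact h1
    haveI := isIso_pushoutSection_of_isAffineOpen H (le_refl (j ⁻¹ᵁ V)) e hUY hV hK hW
    have hpo := (isIso_pushoutSection_iff H (le_refl (j ⁻¹ᵁ V)) e hUY).1 inferInstance
    haveI : IsDomain Γ(Y, V) := inferInstance
    have hηV : genericPoint Y ∈ V := by
      show genericPoint Y ∈ (V : Set Y)
      rw [(genericPoint_spec Y).mem_open_set_iff V.isOpen]
      obtain ⟨q, hq⟩ := hne
      exact ⟨q, trivial, hq⟩
    haveI : Nonempty (j ⁻¹ᵁ V) := by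
      obtain ⟨s⟩ := ‹Nonempty S'›
      refine ⟨⟨s, ?_⟩⟩
      show j s ∈ V
      rw [hj s]; exact hηV
    haveI : Nontrivial Γ(S', j ⁻¹ᵁ V) := Scheme.component_nontrivial S' (j ⁻¹ᵁ V)
    haveI : Subsingleton Γ((Scheme.Modules.pullback i).obj T, i ⁻¹ᵁ W) :=
      ⟨fun a b => by
        rw [Groth.Agent.Helper1.QcAbel.sections_eq_zero_of_isZero h0 _ a,
          Groth.Agent.Helper1.QcAbel.sections_eq_zero_of_isZero h0 _ b]⟩
    refine subsingleton_of_isPushout_of_isBC (f.appLE V W e).hom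
      (j.appLE V (j ⁻¹ᵁ V) le_rfl).hom (i.appLE W (i ⁻¹ᵁ W) le_rfl).hom
      (p.appLE (j ⁻¹ᵁ V) (i ⁻¹ᵁ W) (by rw [hUY]; exact inf_le_right)).hom ?_ ?_ ?_
      (unitRes i T (le_refl (i ⁻¹ᵁ W))) (isBC_unitRes i T hW hW' le_rfl)
    · exact hpo
    · intro a ha
      exact isUnit_appLE_of_ne_zero j hj V (j ⁻¹ᵁ V) le_rfl a ha
    · intro a m ha h
      exact sections_torsionFree f T htf e a ha m h
  apply isZero_of_stalks
  intro x
  refine @ModuleCat.isZero_of_subsingleton _ _ _ ⟨fun a b => ?_⟩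
  have hz : ∀ c : T.presheaf.stalk x, c = 0 := by
    intro c
    obtain ⟨U, hxU, m, rfl⟩ := TopCat.Presheaf.exists_germ_eq T.presheaf c
    obtain ⟨_, ⟨V, hV : IsAffineOpen V, rfl⟩, hfxV, -⟩ :=
      Y.isBasis_affineOpens.exists_subset_of_mem_open (Set.mem_univ (f x)) isOpen_univ
    obtain ⟨_, ⟨W, hW : IsAffineOpen W, rfl⟩, hxW, hWle⟩ :=
      X.isBasis_affineOpens.exists_subset_of_mem_open
        (show x ∈ ((U ⊓ f ⁻¹ᵁ V : X.Opens) : Set X) from ⟨hxU, hfxV⟩) (U ⊓ f ⁻¹ᵁ V).isOpen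
    have hWU : W ≤ U := fun y hy => (hWle hy).1
    have hWV : W ≤ f ⁻¹ᵁ V := fun y hy => (hWle hy).2
    haveI := key W V hW hV hWV ⟨⟨f x, hfxV⟩⟩
    have h1 : T.presheaf.germ W x hxW (T.presheaf.map (homOfLE hWU).op m) =
        T.presheaf.germ U x hxU m :=
      TopCat.Presheaf.germ_res_apply _ (homOfLE hWU) x hxW m
    rw [← h1, Subsingleton.elim (T.presheaf.map (homOfLE hWU).op m) 0, map_zero]
  exact (hz a).trans (hz b).symm

end Groth.Agent.Lib.Helper5.FlatExt
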