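import Mathlib
import Groth.Agent.Lib.Helper5.FlatExt.Alg
import Groth.Agent.Lib.Helper5.FlatExt.PushTF
import Groth.Agent.Lib.Helper5.Stalk.FlatPull
import Groth.Agent.Lib.Helper1.QcAbel
import Groth.Prelude.Def_FlatMod2

/-!
# Existence of the flat extension of a quotient of the generic fibre (helper5)
-/

set_option autoImplicit false
universe u
open CategoryTheory CategoryTheory.Limits AlgebraicGeometry TopologicalSpace Opposite
open AlgebraicGeometry.Scheme.Modules

namespace Groth.Agent.Lib.Helper5.FlatExt

open Groth.Agent.Lib.Helper5.StalkAdj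

section General

variable {X Z : Scheme.{u}} (i : Z ⟶ X) [Mono i] [IsAffineHom i] [Flat i]

/-- the image of `F ⟶ i_* G'` -/
theorem exists_extension (F : X.Modules) [F.IsQuasicoherent] (G' : Z.Modules) [G'.IsQuasicoherent]
    (π : (Scheme.Modules.pullback i).obj F ⟶ G') [Epi π] :
    ∃ (G : X.Modules) (ρ : F ⟶ G) (ι : G ⟶ (pushforward i).obj G')
      (e : (Scheme.Modules.pullback i).obj G ≅ G'),
      Epi ρ ∧ Mono ι ∧ G.IsQuasicoherent ∧ (Scheme.Modules.pullback i).map ρ ≫ e.hom = π := by
  let adj := pullbackPushforwardAdjunction i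
  let u : F ⟶ (pushforward i).obj G' := adj.homEquiv F G' π
  haveI : ((pushforward i).obj G').IsQuasicoherent :=
    Groth.Agent.Helper1.PushQc.isQuasicoherent_pushforward i G'
  haveI hGq : (Abelian.image u).IsQuasicoherent :=
    Groth.Agent.Helper1.QcAbel.isQuasicoherent_image u
  let φ : (Scheme.Modules.pullback i).obj (Abelian.image u) ⟶ G' :=
    (adj.homEquiv _ _).symm (Abelian.image.ι u)
  have hφ : (Scheme.Modules.pullback i).map (Abelian.factorThruImage u) ≫ φ = π := by
    rw [← Adjunction.homEquiv_naturality_left_symm, Abelian.image.fac]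
    exact (adj.homEquiv F G').symm_apply_apply π
  haveI : Epi ((Scheme.Modules.pullback i).map (Abelian.factorThruImage u) ≫ φ) := by
    rw [hφ]; infer_instance
  haveI hepi : Epi φ := epi_of_epi ((Scheme.Modules.pullback i).map (Abelian.factorThruImage u)) φ
  haveI hmono : Mono φ := by
    have h1 : φ = (Scheme.Modules.pullback i).map (Abelian.image.ι u) ≫ adj.counit.app G' :=
      Adjunction.homEquiv_counit adj _ _ _
    haveI := isIso_counit_app_of_mono i G'
    haveI : Mono ((Scheme.Modules.pullback i).map (Abelian.image.ι u)) :=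
      mono_pullback_map_of_flat i (Abelian.image.ι u)
    rw [h1]
    infer_instance
  haveI : IsIso φ := isIso_of_mono_of_epi φ
  exact ⟨Abelian.image u, Abelian.factorThruImage u, Abelian.image.ι u, asIso φ,
    inferInstance, inferInstance, hGq, hφ⟩

end General

section Flat

variable {X Y Z : Scheme.{u}} (i : Z ⟶ X) (f : X ⟶ Y)

/-- a submodule of `i_* G'` is flat over `Y` -/
theorem isFlatOver_of_mono_pushforward [IsIntegral Y]
    (hY : ∀ y : Y, IsRegularLocalRing (Y.presheaf.stalk y) ∧ ringKrullDim (Y.presheaf.stalk y) ≤ 1)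
    (hgen : ∀ z : Z, f (i z) = genericPoint Y) (G' : Z.Modules) (G : X.Modules)
    (ι : G ⟶ (pushforward i).obj G') [Mono ι] : FlatMod.IsFlatOver f G := by
  intro x
  unfold FlatMod.IsFlatOverAt
  letI := FlatMod.moduleStalkOver f G x
  refine flat_of_torsionFree (hY (f x)).1 (hY (f x)).2 ?_
  intro a m ha ham
  haveI : Mono ((stalkSh X x).map ι) := inferInstance
  have hinj0 : Function.Injective ((stalkSh X x).map ι).hom :=
    (ModuleCat.mono_iff_injective _).1 inferInstance
  let L : (G.presheaf.stalk x) →ₗ[X.presheaf.stalk x]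
      (((pushforward i).obj G').presheaf.stalk x) := ((stalkSh X x).map ι).hom
  have hinj : Function.Injective L := hinj0
  apply hinj
  rw [map_zero]
  refine pushforward_stalk_torsionFree i f hgen G' x a ha _ ?_
  have h1 : L ((f.stalkMap x).hom a • m) = (f.stalkMap x).hom a • L m :=
    map_smul L _ _
  rw [← h1]
  have h2 : (f.stalkMap x).hom a • m = 0 := ham
  rw [h2, map_zero]

end Flat

end Groth.Agent.Lib.Helper5.FlatExt
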