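import Mathlib
import Groth.Agent.Lib.Helper5.FlatExt.Chart
import Groth.Agent.Lib.Helper5.FlatExt.Exist
import Groth.Agent.Lib.Lead.PBQc

/-!
# Uniqueness of the flat extension of a quotient of the generic fibre (helper5)
-/

set_option autoImplicit false
universe u
open CategoryTheory CategoryTheory.Limits AlgebraicGeometry TopologicalSpace Opposite
open AlgebraicGeometry.Scheme.Modules

namespace Groth.Agent.Lib.Helper5.FlatExt

open Groth.Agent.Lib.Helper5.StalkAdj

variable {X Y Z S' : Scheme.{u}}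

/-- torsion-freeness of stalks passes to subobjects -/
theorem torsionFree_of_mono (f : X ⟶ Y) {T G : X.Modules} (κ : T ⟶ G) [Mono κ]
    (htf : ∀ (x : X) (a : Y.presheaf.stalk (f x)) (m : G.presheaf.stalk x), a ≠ 0 →
      (f.stalkMap x).hom a • m = 0 → m = 0)
    (x : X) (a : Y.presheaf.stalk (f x)) (m : T.presheaf.stalk x) (ha : a ≠ 0)
    (h : (f.stalkMap x).hom a • m = 0) : m = 0 := by
  haveI : Mono ((stalkSh X x).map κ) := inferInstance
  have hinj0 : Function.Injective ((stalkSh X x).map κ).hom :=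
    (ModuleCat.mono_iff_injective _).1 inferInstance
  let L : (T.presheaf.stalk x) →ₗ[X.presheaf.stalk x] (G.presheaf.stalk x) :=
    ((stalkSh X x).map κ).hom
  have hinj : Function.Injective L := hinj0
  apply hinj
  rw [map_zero]
  refine htf x a _ ha ?_
  have h1 : L ((f.stalkMap x).hom a • m) = (f.stalkMap x).hom a • L m := map_smul L _ _
  rw [← h1, h, map_zero]

/-- flatness over a domain gives torsion-freeness of the stalks -/
theorem torsionFree_of_isFlatOver [IsIntegral Y] (f : X ⟶ Y) (G : X.Modules)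
    (hG : FlatMod.IsFlatOver f G)
    (x : X) (a : Y.presheaf.stalk (f x)) (m : G.presheaf.stalk x) (ha : a ≠ 0)
    (h : (f.stalkMap x).hom a • m = 0) : m = 0 := by
  have hfl := hG x
  unfold FlatMod.IsFlatOverAt at hfl
  letI := FlatMod.moduleStalkOver f G x
  exact eq_zero_of_smul_eq_zero_of_flat (R := Y.presheaf.stalk (f x)) a m ha h

section

variable [IsIntegral Y] [Nonempty S'] {i : Z ⟶ X} {p : Z ⟶ S'}
    {f : X ⟶ Y} {j : S' ⟶ Y} (H : IsPullback i p f j) [IsAffineHom j] [Flat i]
    (hj : ∀ s : S', j s = genericPoint Y)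

include H hj in
/-- the unit `G ⟶ i_* i^* G` is a monomorphism for quasi-coherent `G` torsion-free over `Y` -/
theorem mono_unit_app (G : X.Modules) [G.IsQuasicoherent]
    (htf : ∀ (x : X) (a : Y.presheaf.stalk (f x)) (m : G.presheaf.stalk x), a ≠ 0 →
      (f.stalkMap x).hom a • m = 0 → m = 0) :
    Mono ((pullbackPushforwardAdjunction i).unit.app G) := by
  haveI : IsAffineHom i := MorphismProperty.of_isPullback H.flip inferInstance
  let adj := pullbackPushforwardAdjunction i
  haveI : ((Scheme.Modules.pullback i).obj G).IsQuasicoherent :=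
    Groth.Agent.Lead.PB.isQuasicoherent_pullback i G
  haveI : ((pushforward i).obj ((Scheme.Modules.pullback i).obj G)).IsQuasicoherent :=
    Groth.Agent.Helper1.PushQc.isQuasicoherent_pushforward i _
  haveI : ((𝟭 X.Modules).obj G).IsQuasicoherent := ‹G.IsQuasicoherent›
  haveI : ((Scheme.Modules.pullback i ⋙ pushforward i).obj G).IsQuasicoherent :=
    ‹((pushforward i).obj ((Scheme.Modules.pullback i).obj G)).IsQuasicoherent›
  haveI hTq : (kernel (adj.unit.app G)).IsQuasicoherent :=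
    Groth.Agent.Helper1.QcAbel.isQuasicoherent_kernel (adj.unit.app G)
  have hTtf := torsionFree_of_mono f (kernel.ι (adj.unit.app G)) htf
  have hT0 : IsZero ((Scheme.Modules.pullback i).obj (kernel (adj.unit.app G))) := by
    haveI : Mono ((Scheme.Modules.pullback i).map (kernel.ι (adj.unit.app G))) :=
      mono_pullback_map_of_flat i _
    have h1 : (Scheme.Modules.pullback i).map (kernel.ι (adj.unit.app G)) ≫
        (Scheme.Modules.pullback i).map (adj.unit.app G) = 0 := by
      rw [← Functor.map_comp, kernel.condition, Functor.map_zero]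
    haveI : Mono ((Scheme.Modules.pullback i).map (adj.unit.app G)) :=
      (SplitMono.mk _ (adj.left_triangle_components G)).mono
    have h2 : (Scheme.Modules.pullback i).map (kernel.ι (adj.unit.app G)) = 0 :=
      zero_of_comp_mono _ h1
    exact IsZero.of_mono_eq_zero _ h2
  have hT : IsZero (kernel (adj.unit.app G)) :=
    isZero_of_isZero_pullback H hj _ hTtf hT0
  exact Preadditive.mono_of_kernel_zero (hT.eq_of_src _ _)

include H hj in
/-- **uniqueness** -/
theorem exists_iso_of_extensions [Mono i] (F : X.Modules) (G' : Z.Modules)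
    (π : (Scheme.Modules.pullback i).obj F ⟶ G')
    (G₁ G₂ : X.Modules) (ρ₁ : F ⟶ G₁) (ρ₂ : F ⟶ G₂)
    (e₁ : (Scheme.Modules.pullback i).obj G₁ ≅ G') (e₂ : (Scheme.Modules.pullback i).obj G₂ ≅ G')
    [Epi ρ₁] [Epi ρ₂] [G₁.IsQuasicoherent] [G₂.IsQuasicoherent]
    (h₁ : FlatMod.IsFlatOver f G₁) (h₂ : FlatMod.IsFlatOver f G₂)
    (c₁ : (Scheme.Modules.pullback i).map ρ₁ ≫ e₁.hom = π)
    (c₂ : (Scheme.Modules.pullback i).map ρ₂ ≫ e₂.hom = π) :
    ∃ e : G₁ ≅ G₂, ρ₁ ≫ e.hom = ρ₂ := by
  let adj := pullbackPushforwardAdjunction i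
  let u₁ : G₁ ⟶ (pushforward i).obj G' := adj.homEquiv G₁ G' e₁.hom
  let u₂ : G₂ ⟶ (pushforward i).obj G' := adj.homEquiv G₂ G' e₂.hom
  have hu₁ : ρ₁ ≫ u₁ = adj.homEquiv F G' π := by
    rw [← c₁]; exact (adj.homEquiv_naturality_left ρ₁ e₁.hom).symm
  have hu₂ : ρ₂ ≫ u₂ = adj.homEquiv F G' π := by
    rw [← c₂]; exact (adj.homEquiv_naturality_left ρ₂ e₂.hom).symm
  haveI m₁ : Mono u₁ := by
    haveI := mono_unit_app H hj G₁ (torsionFree_of_isFlatOver f G₁ h₁)
    have : u₁ = adj.unit.app G₁ ≫ (pushforward i).map e₁.hom := adj.homEquiv_unit _ _ _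
    rw [this]; infer_instance
  haveI m₂ : Mono u₂ := by
    haveI := mono_unit_app H hj G₂ (torsionFree_of_isFlatOver f G₂ h₂)
    have : u₂ = adj.unit.app G₂ ≫ (pushforward i).map e₂.hom := adj.homEquiv_unit _ _ _
    rw [this]; infer_instance
  let F₁ : StrongEpiMonoFactorisation (adj.homEquiv F G' π) :=
    { I := G₁, m := u₁, e := ρ₁, fac := hu₁, m_mono := m₁,
      e_strong_epi := strongEpi_of_epi ρ₁ }
  let F₂ : StrongEpiMonoFactorisation (adj.homEquiv F G' π) :=
    { I := G₂, m := u₂, e := ρ₂, fac := hu₂, m_mono := m₂,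
      e_strong_epi := strongEpi_of_epi ρ₂ }
  let e : G₁ ≅ G₂ := IsImage.isoExt F₁.toMonoIsImage F₂.toMonoIsImage
  refine ⟨e, ?_⟩
  have h3 : e.hom ≫ u₂ = u₁ := IsImage.isoExt_hom_m F₁.toMonoIsImage F₂.toMonoIsImage
  rw [← cancel_mono u₂, Category.assoc, h3, hu₁, hu₂]

end

end Groth.Agent.Lib.Helper5.FlatExt
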